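import Mathlib
import Cfsg.Agent.S0143
import Cfsg.Agent.S0581
import Cfsg.Agent.H10.PSolvable
import Cfsg.Agent.H10.PSolvableDual
import Cfsg.Agent.H27.ClassBasic
import Cfsg.Agent.H1.Cores

/-! Groups whose `p`-regular classes have `p`-power size. -/

set_option autoImplicit false
set_option linter.style.haveILetI false

universe u

namespace H1

open Subgroup
open scoped Pointwise

/-- All `p`-regular classes have `p`-power size. -/
def RegClassPow (G : Type*) [Group G] (p : ℕ) : Prop :=
  ∀ x : G, (orderOf x).Coprime p → ∃ k : ℕ, (centralizer ({x} : Set G)).index = p ^ k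

theorem exists_lift_pRegular {G : Type*} [Group G] [Finite G] {p : ℕ} (hp : p.Prime)
    (N : Subgroup G) [N.Normal] (y : G ⧸ N) (hy : (orderOf y).Coprime p) :
    ∃ x : G, (x : G ⧸ N) = y ∧ (orderOf x).Coprime p := by
  obtain ⟨x, rfl⟩ := QuotientGroup.mk_surjective y
  set o := orderOf x with ho
  set a := o.factorization p
  have hm : (p ^ a).Coprime (orderOf (x : G ⧸ N)) := (hy.symm).pow_left a
  obtain ⟨t, ht1, ht2⟩ := Nat.chineseRemainder hm 0 1
  refine ⟨x ^ t, ?_, ?_⟩
  · rw [QuotientGroup.mk_pow]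
    conv_rhs => rw [← pow_one (x : G ⧸ N)]
    exact pow_eq_pow_iff_modEq.mpr ht2
  · have ho0 : o ≠ 0 := (orderOf_pos x).ne'
    have hdvd : orderOf (x ^ t) ∣ o / p ^ a := by
      apply orderOf_dvd_of_pow_eq_one
      rw [← pow_mul, ← orderOf_dvd_iff_pow_eq_one]
      obtain ⟨c, hc⟩ := Nat.modEq_zero_iff_dvd.mp ht1
      rw [hc, mul_assoc, mul_comm c, ← mul_assoc, ← ho,
        Nat.mul_div_cancel' (Nat.ordProj_dvd o p)]
      exact dvd_mul_right o c
    exact Nat.Coprime.coprime_dvd_left hdvd (Nat.coprime_ordCompl hp ho0).symm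

theorem RegClassPow.normal {G : Type*} [Group G] [Finite G] {p : ℕ} (hp : p.Prime)
    (h : RegClassPow G p) (N : Subgroup G) [N.Normal] : RegClassPow N p := by
  intro x hx
  obtain ⟨k, hk⟩ := h x (by rwa [Subgroup.orderOf_coe])
  obtain ⟨j, -, hj⟩ := (Nat.dvd_prime_pow hp).mp (hk ▸ H27.index_cent_normal_dvd N x)
  exact ⟨j, hj⟩

theorem RegClassPow.quotient {G : Type*} [Group G] [Finite G] {p : ℕ} (hp : p.Prime)
    (h : RegClassPow G p) (N : Subgroup G) [N.Normal] : RegClassPow (G ⧸ N) p := by
  intro y hy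
  obtain ⟨x, rfl, hx⟩ := exists_lift_pRegular hp N y hy
  obtain ⟨k, hk⟩ := h x hx
  obtain ⟨j, -, hj⟩ := (Nat.dvd_prime_pow hp).mp (hk ▸ H27.index_cent_quot_dvd N x)
  exact ⟨j, hj⟩

theorem RegClassPow.isPSolvable {p : ℕ} [hp : Fact p.Prime] :
    ∀ (n : ℕ) (G : Type u) [Group G] [Finite G], Nat.card G = n → RegClassPow G p →
      Cfsg.IsPSolvable p G := by
  intro n
  induction n using Nat.strong_induction_on with
  | _ n ih =>
  intro G _ _ hn h
  rcases subsingleton_or_nontrivial G with hs | hs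
  · exact H10.isPSolvable_of_subsingleton
  by_cases hsimple : IsSimpleGroup G
  · by_cases hreg : ∃ g : G, g ≠ 1 ∧ (orderOf g).Coprime p
    · obtain ⟨g, hg, hgp⟩ := hreg
      obtain ⟨k, hk⟩ := h g hgp
      have hprime := Cfsg.Agent.S0143.result p k hp.out g hg hk
      haveI : Fact (Nat.card G).Prime := ⟨hprime⟩
      haveI : IsCyclic G := isCyclic_of_prime_card rfl
      haveI : Group.IsSolvable G := Group.isSolvable_of_comm fun a b => IsMulCommutative.is_comm.comm a b
      exact H10.isPSolvable_of_isSolvable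
    · have hpg : IsPGroup p G := by
        refine IsPGroup.iff_orderOf.mpr fun g => ?_
        set o := orderOf g
        have ho0 : o ≠ 0 := (orderOf_pos g).ne'
        refine ⟨o.factorization p, ?_⟩
        by_contra hne
        refine hreg ⟨g ^ p ^ o.factorization p, ?_, ?_⟩
        · intro h1
          exact hne (Nat.dvd_antisymm (orderOf_dvd_of_pow_eq_one h1) (Nat.ordProj_dvd o p))
        · refine Nat.Coprime.coprime_dvd_left (orderOf_dvd_of_pow_eq_one ?_)
            (Nat.coprime_ordCompl hp.out ho0).symm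
          rw [← pow_mul, Nat.mul_div_cancel' (Nat.ordProj_dvd o p)]
          exact pow_orderOf_eq_one g
      haveI : Group.IsNilpotent G := hpg.isNilpotent
      exact H10.isPSolvable_of_isSolvable
  · obtain ⟨N, hN, hN0, hN1⟩ : ∃ N : Subgroup G, N.Normal ∧ N ≠ ⊥ ∧ N ≠ ⊤ := by
      by_contra hcon
      exact hsimple ⟨fun N hN => by
        by_contra hh
        exact hcon ⟨N, hN, fun h => hh (Or.inl h), fun h => hh (Or.inr h)⟩⟩
    have hlt : Nat.card N < Nat.card G := by
      refine lt_of_le_of_ne (Nat.le_of_dvd Nat.card_pos N.card_subgroup_dvd_card) fun e => ?_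
      exact hN1 (N.eq_top_of_card_eq e)
    exact H10.isPSolvable_of_normal N (ih _ (hn ▸ hlt) N rfl (h.normal hp.out N))
      (ih _ (hn ▸ H10.card_quotient_lt N hN0) (G ⧸ N) rfl (h.quotient hp.out N))

theorem RegClassPow.exists_complement {p : ℕ} [hp : Fact p.Prime] :
    ∀ (n : ℕ) (G : Type u) [Group G] [Finite G], Nat.card G = n → RegClassPow G p →
      ∃ H : Subgroup G, (∀ a ∈ H, ∀ b ∈ H, a * b = b * a) ∧ ¬ p ∣ Nat.card H ∧
        ∃ k : ℕ, H.index = p ^ k := by
  intro n
  induction n using Nat.strong_induction_on with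
  | _ n ih =>
  intro G _ _ hn h
  set O := Cfsg.pCore p G with hO
  haveI : O.Normal := H1.pCore_normal' p G
  rcases eq_or_ne O ⊥ with hb | hne
  · set K := Cfsg.pPrimeCore p G with hK
    haveI : K.Normal := H1.pPrimeCore_normal' p G
    have hKc : (Nat.card K).Coprime p := H1.card_pPrimeCore_coprime p G
    have hmem : ∀ x : G, (orderOf x).Coprime p → x ∈ K := by
      intro x hx
      refine H10.centralizer_pPrimeCore_le (RegClassPow.isPSolvable _ G rfl h) hb ?_
      obtain ⟨k, hk⟩ := h x hx
      have h1 : (centralizer ({x} : Set G)).relIndex K ∣ p ^ k :=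
        hk ▸ H27.relIndex_dvd_index_right _ K
      have h3 : (centralizer ({x} : Set G)).relIndex K = 1 :=
        Nat.eq_one_of_dvd_coprimes (hKc.pow_right k) (relIndex_dvd_card _ _) h1
      rw [mem_centralizer_iff]
      intro y hy
      exact H27.mem_cent.mp (relIndex_eq_one.mp h3 hy)
    refine ⟨K, fun a ha b hb' => ?_, ?_, ?_⟩
    · have hb2 : (orderOf b).Coprime p :=
        hKc.coprime_dvd_left (Subgroup.orderOf_dvd_natCard _ hb')
      obtain ⟨k, hk⟩ := h b hb2
      have h1 : (centralizer ({b} : Set G)).relIndex K ∣ p ^ k :=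
        hk ▸ H27.relIndex_dvd_index_right _ K
      have h3 : (centralizer ({b} : Set G)).relIndex K = 1 :=
        Nat.eq_one_of_dvd_coprimes (hKc.pow_right k) (relIndex_dvd_card _ _) h1
      exact H27.mem_cent.mp (relIndex_eq_one.mp h3 ha)
    · exact fun hd => hp.out.coprime_iff_not_dvd.mp hKc.symm hd
    · refine ⟨_, Nat.eq_prime_pow_of_unique_prime_dvd K.index_ne_zero_of_finite
        fun {q} hq hqd => ?_⟩
      by_contra hqp
      haveI := Fact.mk hq
      rw [index_eq_card] at hqd
      obtain ⟨y, hy⟩ := exists_prime_orderOf_dvd_card' q hqd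
      obtain ⟨x, rfl, hx⟩ := exists_lift_pRegular hp.out K y
        (hy ▸ (Nat.coprime_primes hq hp.out).mpr hqp)
      rw [(QuotientGroup.eq_one_iff x).mpr (hmem x hx), orderOf_one] at hy
      exact hq.one_lt.ne hy
  · obtain ⟨Hb, hcomm, hnd, k, hk⟩ := ih _ (hn ▸ H10.card_quotient_lt O hne) (G ⧸ O) rfl
      (h.quotient hp.out O)
    obtain ⟨a, ha⟩ := (H1.isPGroup_pCore p G).exists_card_eq
    set f := QuotientGroup.mk' O
    set K := Hb.comap f with hKdef
    have hOK : O ≤ K := by
      intro x hx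
      rw [mem_comap, show f x = 1 from (QuotientGroup.eq_one_iff x).mpr hx]
      exact one_mem _
    have hcop : (Nat.card O).Coprime (Nat.card Hb) := by
      rw [ha]
      exact (hp.out.coprime_iff_not_dvd.mpr hnd).pow_left a
    have hcK : Nat.card K = Nat.card O * Nat.card Hb := H1.card_comap_mk' O Hb
    have hcO : Nat.card (O.subgroupOf K) = Nat.card O :=
      Nat.card_congr (subgroupOfEquivOfLe hOK).toEquiv
    have hiO : (O.subgroupOf K).index = Nat.card Hb := by
      have h2 := (O.subgroupOf K).card_mul_index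
      rw [hcO, hcK] at h2
      exact Nat.eq_of_mul_eq_mul_left Nat.card_pos h2
    obtain ⟨H', hH'⟩ := exists_right_complement'_of_coprime (N := O.subgroupOf K)
      (by rw [hcO, hiO]; exact hcop)
    set H := H'.map K.subtype with hH
    have hcH : Nat.card H = Nat.card Hb := by
      rw [hH, card_map_of_injective K.subtype_injective]
      have h2 := hH'.card_mul
      rw [hcO, hcK] at h2
      exact Nat.eq_of_mul_eq_mul_left Nat.card_pos h2
    refine ⟨H, fun x hx y hy => ?_, hcH ▸ hnd, a + k, ?_⟩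
    · have hfx : f x ∈ Hb := (map_subtype_le H') hx
      have hfy : f y ∈ Hb := (map_subtype_le H') hy
      have hcO' : x * y * (y * x)⁻¹ ∈ O := by
        rw [← QuotientGroup.eq_one_iff]
        have := hcomm _ hfx _ hfy
        simp only [f, QuotientGroup.mk'_apply] at this
        rw [QuotientGroup.mk_mul, QuotientGroup.mk_inv, QuotientGroup.mk_mul, QuotientGroup.mk_mul,
          this, mul_inv_cancel]
      have hbot : O ⊓ H = ⊥ := Subgroup.inf_eq_bot_of_coprime (hcH ▸ hcop)
      have hmH : x * y * (y * x)⁻¹ ∈ H := mul_mem (mul_mem hx hy) (inv_mem (mul_mem hy hx))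
      have := hbot.le (mem_inf.mpr ⟨hcO', hmH⟩)
      rwa [mem_bot, mul_inv_eq_one] at this
    · have h3 := H.card_mul_index
      rw [hcH] at h3
      have h4 := O.card_mul_index
      rw [← h3, ha] at h4
      have h5 := Hb.card_mul_index
      rw [← index_eq_card, hk] at h5
      refine Nat.eq_of_mul_eq_mul_left (Nat.card_pos (α := Hb)) ?_
      rw [← h4, ← h5]
      ring

theorem regClassPow_of_abelian_complement {G : Type*} [Group G] [Finite G] {p : ℕ}
    (hp : p.Prime) (H : Subgroup G) (hc : IsMulCommutative H) (hnd : ¬ p ∣ Nat.card H)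
    {k : ℕ} (hk : H.index = p ^ k) : RegClassPow G p := by
  intro x hx
  haveI := hc
  haveI : Group.IsNilpotent H :=
    open scoped IsMulCommutative in CommGroup.isNilpotent
  obtain ⟨g, hg⟩ := Cfsg.Agent.S0581.result H (zpowers x) inferInstance
    (hk ▸ (hp.coprime_iff_not_dvd.mpr hnd).symm.pow_right k) fun q hq hqd => by
      rw [Nat.card_zpowers] at hqd
      have hqp : q ≠ p := fun e => hq.one_lt.ne'
        (Nat.eq_one_of_dvd_coprimes hx hqd (e ▸ dvd_rfl))
      have : q ∣ Nat.card H * H.index := H.card_mul_index ▸ hqd.trans (orderOf_dvd_natCard x)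
      rcases hq.dvd_mul.mp this with h1 | h1
      · exact h1
      · exact absurd ((Nat.prime_dvd_prime_iff_eq hq hp).mp (hq.dvd_of_dvd_pow (hk ▸ h1))) hqp
  have hle : MulAut.conj g • H ≤ centralizer ({x} : Set G) := by
    intro y hy
    have hxm : x ∈ MulAut.conj g • H := hg (mem_zpowers x)
    rw [Subgroup.mem_pointwise_smul_iff_inv_smul_mem] at hy hxm
    rw [H27.mem_cent]
    have := congrArg Subtype.val
      (IsMulCommutative.is_comm.comm (⟨_, hy⟩ : H) ⟨_, hxm⟩)
    simp only [Subgroup.coe_mul] at this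
    rw [← smul_mul', ← smul_mul'] at this
    exact smul_left_cancel _ this
  have hd : (centralizer ({x} : Set G)).index ∣ p ^ k := by
    refine (index_dvd_of_le hle).trans (dvd_of_eq ?_)
    rw [← hk]
    exact index_map_equiv H (MulAut.conj g)
  obtain ⟨j, -, hj⟩ := (Nat.dvd_prime_pow hp).mp hd
  exact ⟨j, hj⟩

end H1
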