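import Cfsg.Agent.H1.Wielandt

/-!
Hall systems and Hall's converse theorem (modulo Burnside's two-prime theorem, passed as a
hypothesis).
-/

set_option autoImplicit false

namespace H1

open scoped Pointwise

universe u

/-- Burnside's two-prime theorem as a proposition. -/
def TwoPrimeSolvable : Prop :=
  ∀ (G : Type u) [Group G] [Finite G] (p q a b : ℕ), p.Prime → q.Prime →
    Nat.card G = p ^ a * q ^ b → Group.IsSolvable G

theorem coprime_of_primeParts {p q a b : ℕ} (hp : p.Prime) (hq : q.Prime) (h : p ≠ q) :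
    (p ^ a).Coprime (q ^ b) :=
  Nat.Coprime.pow a b ((Nat.coprime_primes hp hq).mpr h)

/-- Hall's converse. -/
theorem solvable_of_complements (hB : TwoPrimeSolvable.{u}) {G : Type u} [Group G] [Finite G]
    (h : ∀ p : ℕ, p.Prime → ∃ H : Subgroup G, H.index = p ^ (Nat.card G).factorization p) :
    Group.IsSolvable G := by
  induction hN : Nat.card G using Nat.strong_induction_on generalizing G with
  | _ N ih =>
  have hpos : Nat.card G ≠ 0 := Nat.card_pos.ne'
  have hprod := Nat.prod_factorization_pow_eq_self hpos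
  rw [Finsupp.prod, Nat.support_factorization] at hprod
  by_cases hsmall : (Nat.card G).primeFactors.card ≤ 2
  · rcases Nat.lt_or_ge (Nat.card G).primeFactors.card 1 with h0 | h1
    · have : (Nat.card G).primeFactors = ∅ := Finset.card_eq_zero.mp (by omega)
      rw [this, Finset.prod_empty] at hprod
      exact hB G 2 2 0 0 Nat.prime_two Nat.prime_two (by simpa using hprod.symm)
    rcases Nat.lt_or_ge (Nat.card G).primeFactors.card 2 with h2 | h2
    · obtain ⟨p, hp⟩ := Finset.card_eq_one.mp (by omega : (Nat.card G).primeFactors.card = 1)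
      rw [hp, Finset.prod_singleton] at hprod
      exact hB G p p _ 0 (Nat.prime_of_mem_primeFactors (hp ▸ Finset.mem_singleton_self p))
        (Nat.prime_of_mem_primeFactors (hp ▸ Finset.mem_singleton_self p)) (by simpa using hprod.symm)
    · obtain ⟨p, q, hpq, he⟩ := Finset.card_eq_two.mp (by omega : (Nat.card G).primeFactors.card = 2)
      rw [he, Finset.prod_pair hpq] at hprod
      exact hB G p q _ _ (Nat.prime_of_mem_primeFactors (n := Nat.card G) (by rw [he]; simp))
        (Nat.prime_of_mem_primeFactors (n := Nat.card G) (by rw [he]; simp)) hprod.symm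
  · obtain ⟨p, hp⟩ := Finset.card_pos.mp (by omega : 0 < (Nat.card G).primeFactors.card)
    obtain ⟨q, hq, hqp⟩ := Finset.exists_mem_ne (by omega : 1 < (Nat.card G).primeFactors.card) p
    obtain ⟨r, hr, hrpq⟩ : ∃ r ∈ (Nat.card G).primeFactors, r ∉ ({p, q} : Finset ℕ) := by
      by_contra hc
      push Not at hc
      exact hsmall ((Finset.card_le_card hc).trans Finset.card_le_two)
    simp only [Finset.mem_insert, Finset.mem_singleton, not_or] at hrpq
    have hsol : ∀ s ∈ (Nat.card G).primeFactors, ∀ K : Subgroup G,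
        K.index = s ^ (Nat.card G).factorization s → Group.IsSolvable K := by
      intro s hs K hK
      have hsp := Nat.prime_of_mem_primeFactors hs
      have hcard := K.card_mul_index
      have hlt : Nat.card K < Nat.card G := by
        rw [← hcard, hK]
        refine lt_mul_of_one_lt_right Nat.card_pos (Nat.one_lt_pow ?_ hsp.one_lt)
        exact (hsp.factorization_pos_of_dvd hpos (Nat.dvd_of_mem_primeFactors hs)).ne'
      have hfac : ∀ t : ℕ, t.Prime → t ≠ s →
          (Nat.card K).factorization t = (Nat.card G).factorization t := by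
        intro t ht hts
        rw [← hcard, Nat.factorization_mul Nat.card_pos.ne' Subgroup.index_ne_zero_of_finite, hK,
          Finsupp.add_apply, hsp.factorization_pow, Finsupp.single_eq_of_ne hts, add_zero]
      refine ih _ (hN ▸ hlt) (G := K) (fun t ht => ?_) rfl
      by_cases hts : t = s
      · subst hts
        refine ⟨⊤, ?_⟩
        have h1 : (Nat.card K).factorization t = 0 := by
          have := congrArg (fun n : ℕ => n.factorization t) hcard
          simp only [Nat.factorization_mul Nat.card_pos.ne' Subgroup.index_ne_zero_of_finite] at this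
          rw [Finsupp.add_apply, hK, hsp.factorization_pow, Finsupp.single_eq_same] at this
          omega
        rw [Subgroup.index_top, h1, pow_zero]
      · obtain ⟨L, hL⟩ := h t ht
        refine ⟨L.subgroupOf K, ?_⟩
        rw [hfac t ht hts]
        have hc : K.index.Coprime L.index := by
          rw [hK, hL]; exact coprime_of_primeParts hsp ht (Ne.symm hts)
        have h1 := Subgroup.relIndex_mul_index (inf_le_left : K ⊓ L ≤ K)
        rw [Subgroup.inf_relIndex_left, index_inf_eq_of_coprime K L hc, mul_comm K.index] at h1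
        rw [← hL]
        exact Nat.eq_of_mul_eq_mul_right (Nat.pos_of_ne_zero Subgroup.index_ne_zero_of_finite) h1
    obtain ⟨A, hA⟩ := h p (Nat.prime_of_mem_primeFactors hp)
    obtain ⟨B, hB'⟩ := h q (Nat.prime_of_mem_primeFactors hq)
    obtain ⟨C, hC⟩ := h r (Nat.prime_of_mem_primeFactors hr)
    have hpp := Nat.prime_of_mem_primeFactors hp
    have hqq := Nat.prime_of_mem_primeFactors hq
    have hrr := Nat.prime_of_mem_primeFactors hr
    refine solvable_of_three_coprime A B C (hsol p hp A hA) (hsol q hq B hB') (hsol r hr C hC) ?_ ?_ ?_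
    · rw [hA, hB']; exact coprime_of_primeParts hpp hqq (Ne.symm hqp)
    · rw [hA, hC]; exact coprime_of_primeParts hpp hrr (Ne.symm hrpq.1)
    · rw [hB', hC]; exact coprime_of_primeParts hqq hrr (Ne.symm hrpq.2)

/-- The primes dividing a number, as a finset of `Nat.Primes`. -/
theorem exists_primes_finset {n : ℕ} (hn : n ≠ 0) : ∃ P : Finset Nat.Primes,
    (∀ p : Nat.Primes, p ∈ P ↔ (p : ℕ) ∈ n.primeFactors) ∧
      ∏ p ∈ P, (p : ℕ) ^ n.factorization p = n := by
  refine ⟨n.primeFactors.preimage (fun p : Nat.Primes => (p : ℕ))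
    Nat.Primes.coe_nat_injective.injOn, fun p => Finset.mem_preimage, ?_⟩
  conv_rhs => rw [← Nat.prod_factorization_pow_eq_self hn]
  rw [Finsupp.prod, Nat.support_factorization]
  refine Finset.prod_bij (fun p _ => (p : ℕ)) (fun p hp => Finset.mem_preimage.mp hp)
    (fun a _ b _ h => Nat.Primes.coe_nat_injective h) (fun b hb => ?_) (fun p _ => rfl)
  exact ⟨⟨b, Nat.prime_of_mem_primeFactors hb⟩, Finset.mem_preimage.mpr hb, rfl⟩

/-- The intersection of a family of subgroups whose indices are powers of distinct primes. -/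
theorem index_biInf_primeParts {G : Type*} [Group G] [Finite G] (K : Nat.Primes → Subgroup G)
    (e : Nat.Primes → ℕ) (hK : ∀ p, (K p).index = (p : ℕ) ^ e p) (T : Finset Nat.Primes) :
    (⨅ p ∈ T, K p).index = ∏ p ∈ T, (p : ℕ) ^ e p := by
  induction T using Finset.cons_induction with
  | empty => simp
  | cons a s ha ih =>
    have hrw : (⨅ p ∈ Finset.cons a s ha, K p) = K a ⊓ ⨅ p ∈ s, K p := by
      simp only [Finset.mem_cons, iInf_or, iInf_inf_eq, iInf_iInf_eq_left]
    rw [Finset.prod_cons, hrw, index_inf_eq_of_coprime _ _ ?_, hK, ih]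
    rw [hK, ih]
    refine Nat.Coprime.prod_right fun i hi => coprime_of_primeParts a.2 i.2 ?_
    exact fun h => ha (Nat.Primes.coe_nat_inj a i |>.mp h ▸ hi)

/-- A solvable group has a Sylow system. -/
theorem exists_sylow_system {G : Type u} [Group G] [Finite G] [Group.IsSolvable G] :
    ∃ S : (p : Nat.Primes) → Sylow (p : ℕ) G,
      ∀ p q : Nat.Primes, (S p : Set G) * (S q : Set G) = (S q : Set G) * (S p : Set G) := by
  classical
  have hpos : Nat.card G ≠ 0 := Nat.card_pos.ne'
  have hex : ∀ p : Nat.Primes, ∃ H : Subgroup G,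
      H.index = (p : ℕ) ^ (Nat.card G).factorization p := by
    intro p
    have hd : (p : ℕ) ^ (Nat.card G).factorization p ∣ Nat.card G := Nat.ordProj_dvd _ _
    obtain ⟨b, hb⟩ := hd
    have hcop : b.Coprime ((p : ℕ) ^ (Nat.card G).factorization p) := by
      refine (Nat.Coprime.pow_left _ ((p.2.coprime_iff_not_dvd).mpr fun hpb => ?_)).symm
      obtain ⟨c, rfl⟩ := hpb
      exact Nat.pow_succ_factorization_not_dvd hpos p.2 ⟨c, by rw [pow_succ, mul_assoc]; exact hb⟩
    obtain ⟨H, hH⟩ := hall_exists b ((p : ℕ) ^ (Nat.card G).factorization p)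
      (hb.trans (mul_comm _ _)) hcop
    refine ⟨H, ?_⟩
    have h1 := H.card_mul_index
    rw [hH, hb, mul_comm _ b] at h1
    exact Nat.eq_of_mul_eq_mul_left (hH ▸ Nat.card_pos) h1
  choose K hK using hex
  obtain ⟨P, hPmem, hPprod⟩ := exists_primes_finset hpos
  have hcard : ∀ T ⊆ P, Nat.card ↥(⨅ p ∈ T, K p) =
      ∏ p ∈ P \ T, (p : ℕ) ^ (Nat.card G).factorization p := by
    intro T hT
    have h1 := (⨅ p ∈ T, K p).card_mul_index
    rw [index_biInf_primeParts K _ hK T] at h1
    conv_rhs at h1 => rw [← hPprod, ← Finset.prod_sdiff hT]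
    exact Nat.eq_of_mul_eq_mul_right (Finset.prod_pos fun p _ => pow_pos p.2.pos _) h1
  have hsyl : ∀ p : Nat.Primes, Nat.card ↥(⨅ q ∈ P.erase p, K q) =
      (p : ℕ) ^ (Nat.card G).factorization p := by
    intro p
    rw [hcard _ (Finset.erase_subset _ _)]
    by_cases hp : p ∈ P
    · rw [Finset.sdiff_erase_self hp, Finset.prod_singleton]
    · rw [Finset.erase_eq_of_notMem hp, sdiff_self, Finset.bot_eq_empty, Finset.prod_empty]
      have hp' : (p : ℕ) ∉ (Nat.card G).primeFactors := fun h => hp ((hPmem _).mpr h)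
      rw [← Nat.support_factorization, Finsupp.notMem_support_iff] at hp'
      rw [hp', pow_zero]
  refine ⟨fun p => haveI := Fact.mk p.2; Sylow.ofCard _ (hsyl p), fun p q => ?_⟩
  by_cases hpq : p = q
  · subst hpq; rfl
  have hset : ∀ p q : Nat.Primes, p ≠ q → ∀ T : Subgroup G, T = ⨅ r ∈ (P.erase p).erase q, K r →
      ((⨅ r ∈ P.erase p, K r : Subgroup G) : Set G) * ((⨅ r ∈ P.erase q, K r : Subgroup G) : Set G) =
        T := by
    intro p q hpq T hT
    set A := ⨅ r ∈ P.erase p, K r with hA
    set B := ⨅ r ∈ P.erase q, K r with hB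
    have hAT : A ≤ T := hT ▸ le_iInf₂ fun r hr => iInf₂_le r (Finset.mem_of_mem_erase hr)
    have hBT : B ≤ T := hT ▸ le_iInf₂ fun r hr => iInf₂_le r (by
      obtain ⟨h1, h2⟩ := Finset.mem_erase.mp hr
      exact Finset.mem_erase.mpr ⟨h1, Finset.mem_of_mem_erase h2⟩)
    have hTc : Nat.card T = Nat.card A * Nat.card B := by
      rw [hT, hcard _ ((Finset.erase_subset _ _).trans (Finset.erase_subset _ _)), hA, hB, hsyl,
        hsyl]
      have hval : ∀ r : Nat.Primes, r ∉ P → (r : ℕ) ^ (Nat.card G).factorization r = 1 := by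
        intro r hr
        have hr' : (r : ℕ) ∉ (Nat.card G).primeFactors := fun h => hr ((hPmem _).mpr h)
        rw [← Nat.support_factorization, Finsupp.notMem_support_iff] at hr'
        rw [hr', pow_zero]
      calc ∏ r ∈ P \ (P.erase p).erase q, (r : ℕ) ^ (Nat.card G).factorization r
          = ∏ r ∈ ({p, q} : Finset Nat.Primes), (r : ℕ) ^ (Nat.card G).factorization r := by
            refine Finset.prod_subset ?_ ?_
            · intro r hr
              simp only [Finset.mem_sdiff, Finset.mem_erase, Finset.mem_insert,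
                Finset.mem_singleton] at hr ⊢
              tauto
            · intro r hr hr'
              refine hval r fun hrP => hr' ?_
              simp only [Finset.mem_sdiff, Finset.mem_erase, Finset.mem_insert,
                Finset.mem_singleton] at hr ⊢
              tauto
        _ = _ := Finset.prod_pair hpq
    have hdisj : Disjoint A B := Subgroup.disjoint_of_coprime_natCard (by
      rw [hA, hB, hsyl, hsyl]
      exact coprime_of_primeParts p.2 q.2 (fun h => hpq (Nat.Primes.coe_nat_inj p q |>.mp h)))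
    apply Set.eq_of_subset_of_ncard_le
    · rintro _ ⟨a, ha, b, hb, rfl⟩
      exact mul_mem (hAT ha) (hBT hb)
    · refine le_of_eq ?_
      rw [← Nat.card_coe_set_eq, ← Nat.card_coe_set_eq]
      change Nat.card T = _
      rw [hTc, ← Nat.card_prod]
      refine Nat.card_congr (Equiv.ofBijective
        (fun x : A × B => (⟨(x.1 : G) * x.2, Set.mul_mem_mul x.1.2 x.2.2⟩ :
          ↥((A : Set G) * (B : Set G)))) ⟨?_, ?_⟩)
      · intro x y hxy
        exact Subgroup.mul_injective_of_disjoint hdisj (congrArg Subtype.val hxy)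
      · rintro ⟨_, a, ha, b, hb, rfl⟩
        exact ⟨(⟨a, ha⟩, ⟨b, hb⟩), rfl⟩
    · exact Set.toFinite _
  change ((⨅ r ∈ P.erase p, K r : Subgroup G) : Set G) * _ = _ * _
  exact (hset p q hpq _ rfl).trans (hset q p (Ne.symm hpq) _ (by rw [Finset.erase_right_comm])).symm

/-- A product of two permuting subgroups is the carrier of their join. -/
theorem coe_sup_of_permute {G : Type*} [Group G] {A B : Subgroup G}
    (h : (A : Set G) * (B : Set G) = (B : Set G) * (A : Set G)) :
    ((A ⊔ B : Subgroup G) : Set G) = (A : Set G) * (B : Set G) := by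
  refine Set.Subset.antisymm ?_ ?_
  · let T : Subgroup G :=
      { carrier := (A : Set G) * (B : Set G)
        one_mem' := ⟨1, one_mem A, 1, one_mem B, one_mul 1⟩
        mul_mem' := by
          rintro _ _ ⟨a, ha, b, hb, rfl⟩ ⟨a', ha', b', hb', rfl⟩
          have : b * a' ∈ (A : Set G) * (B : Set G) := h ▸ Set.mul_mem_mul hb ha'
          obtain ⟨a'', ha'', b'', hb'', he⟩ := this
          refine ⟨a * a'', mul_mem ha ha'', b'' * b', mul_mem hb'' hb', ?_⟩
          calc a * a'' * (b'' * b') = a * (a'' * b'') * b' := by group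
            _ = a * (b * a') * b' := by rw [show a'' * b'' = b * a' from he]
            _ = a * b * (a' * b') := by group
        inv_mem' := by
          rintro _ ⟨a, ha, b, hb, rfl⟩
          rw [h]
          exact ⟨b⁻¹, inv_mem hb, a⁻¹, inv_mem ha, (mul_inv_rev a b).symm⟩ }
    exact (sup_le (fun a ha => ⟨a, ha, 1, one_mem B, mul_one a⟩)
      (fun b hb => ⟨1, one_mem A, b, hb, one_mul b⟩) : A ⊔ B ≤ T)
  · rintro _ ⟨a, ha, b, hb, rfl⟩
    exact mul_mem (Subgroup.mem_sup_left ha) (Subgroup.mem_sup_right hb)

/-- A group with a Sylow system has all Hall subgroups for complements of single primes. -/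
theorem complements_of_sylow_system {G : Type u} [Group G] [Finite G]
    (S : (p : Nat.Primes) → Sylow (p : ℕ) G)
    (hS : ∀ p q : Nat.Primes, (S p : Set G) * (S q : Set G) = (S q : Set G) * (S p : Set G))
    (T : Finset Nat.Primes) :
    ∃ H : Subgroup G, (Nat.card H = ∏ p ∈ T, (p : ℕ) ^ (Nat.card G).factorization p) ∧
      ∀ q : Nat.Primes, (H : Set G) * (S q : Set G) = (S q : Set G) * (H : Set G) := by
  induction T using Finset.cons_induction with
  | empty =>
    refine ⟨⊥, by simp, fun q => ?_⟩
    simp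
  | cons a s ha ih =>
    have := Fact.mk a.2
    obtain ⟨H, hH, hperm⟩ := ih
    have hc : (Nat.card H).Coprime (Nat.card (S a : Subgroup G)) := by
      rw [hH, (S a).card_eq_multiplicity]
      refine Nat.Coprime.prod_left fun i hi => coprime_of_primeParts i.2 a.2 ?_
      exact fun h => ha (Nat.Primes.coe_nat_inj i a |>.mp h ▸ hi)
    have hc' := coe_sup_of_permute (hperm a)
    refine ⟨H ⊔ (S a : Subgroup G), ?_, fun q => ?_⟩
    · rw [Finset.prod_cons, mul_comm, ← hH, ← (S a).card_eq_multiplicity, ← Nat.card_prod]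
      refine (Nat.card_congr (Equiv.ofBijective
        (fun x : H × (S a : Subgroup G) => (⟨(x.1 : G) * x.2,
          mul_mem (Subgroup.mem_sup_left x.1.2) (Subgroup.mem_sup_right x.2.2)⟩ :
          ↥(H ⊔ (S a : Subgroup G)))) ⟨?_, ?_⟩)).symm
      · intro x y hxy
        exact Subgroup.mul_injective_of_disjoint (Subgroup.disjoint_of_coprime_natCard hc)
          (congrArg Subtype.val hxy)
      · rintro ⟨z, hz⟩
        rw [← SetLike.mem_coe, hc'] at hz
        obtain ⟨x, hx, y, hy, rfl⟩ := hz
        exact ⟨(⟨x, hx⟩, ⟨y, hy⟩), rfl⟩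
    · rw [hc']
      calc (H : Set G) * (S a : Set G) * (S q : Set G)
          = (H : Set G) * ((S q : Set G) * (S a : Set G)) := by rw [mul_assoc, hS a q]
        _ = (S q : Set G) * ((H : Set G) * (S a : Set G)) := by rw [← mul_assoc, hperm q, mul_assoc]

/-- A group with a Sylow system is solvable, granted the two-prime theorem. -/
theorem solvable_of_sylow_system (hB : TwoPrimeSolvable.{u}) {G : Type u} [Group G] [Finite G]
    (S : (p : Nat.Primes) → Sylow (p : ℕ) G)
    (hS : ∀ p q : Nat.Primes, (S p : Set G) * (S q : Set G) = (S q : Set G) * (S p : Set G)) :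
    Group.IsSolvable G := by
  classical
  refine solvable_of_complements hB fun p hp => ?_
  obtain ⟨pp, rfl⟩ : ∃ pp : Nat.Primes, (pp : ℕ) = p := ⟨⟨p, hp⟩, rfl⟩
  have hpos : Nat.card G ≠ 0 := Nat.card_pos.ne'
  obtain ⟨P, hPmem, hPprod⟩ := exists_primes_finset hpos
  obtain ⟨H, hH, -⟩ := complements_of_sylow_system S hS (P.erase pp)
  refine ⟨H, ?_⟩
  have h1 := H.card_mul_index
  by_cases hmem : pp ∈ P
  · conv_rhs at h1 => rw [← hPprod, ← Finset.prod_erase_mul _ _ hmem, ← hH]
    exact Nat.eq_of_mul_eq_mul_left Nat.card_pos h1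
  · have hp' : (pp : ℕ) ∉ (Nat.card G).primeFactors := fun h => hmem ((hPmem _).mpr h)
    rw [← Nat.support_factorization, Finsupp.notMem_support_iff] at hp'
    rw [Finset.erase_eq_of_notMem hmem, hPprod] at hH
    rw [hp', pow_zero]
    rw [hH] at h1
    exact Nat.eq_of_mul_eq_mul_left Nat.card_pos (by rw [h1, mul_one])

end H1
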