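import Mathlib
import Cfsg.Agent.H1.Cores
import Cfsg.Agent.H1.SchurZassenhausConj
import Cfsg.Agent.H10.PSolvable
import Cfsg.Agent.H82.PLength
import Cfsg.Agent.H6.AutPGroup
import Cfsg.Agent.H1.CoprimeAction

/-! `p`-solvable groups whose automorphisms are transitive on the subgroups of order `p`. -/

set_option autoImplicit false
set_option linter.style.haveILetI false

namespace H1

open Subgroup
open scoped Pointwise commutatorElement

variable {H : Type*} [Group H] [Finite H] {p : ℕ}

theorem map_centralizer_mulAut {G : Type*} [Group G] (a : MulAut G) (S : Subgroup G) :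
    (centralizer (S : Set G)).map a.toMonoidHom = centralizer ((S.map a.toMonoidHom : Subgroup G) : Set G) := by
  ext y
  simp only [mem_map_equiv, mem_centralizer_iff, coe_map, Set.forall_mem_image]
  refine forall₂_congr fun x _ => ?_
  rw [← a.injective.eq_iff]
  simp

/-- With `O_{p'} = 1` and `Aut` transitive on subgroups of order `p` (`p` odd), the Sylow
`p`-subgroup is normal. -/
theorem not_dvd_index_pCore_of_transitive [hp : Fact p.Prime] (hp2 : p ≠ 2)
    (hH : Cfsg.IsPSolvable p H) (hb : Cfsg.pPrimeCore p H = ⊥)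
    (htr : ∀ U V : Subgroup H, Nat.card U = p → Nat.card V = p →
      ∃ a : MulAut H, U.map a.toMonoidHom = V) :
    ¬ p ∣ (Cfsg.pCore p H).index := by
  intro hd
  set O := Cfsg.pCore p H with hOdef
  haveI hOn : O.Normal := H1.pCore_normal' p H
  have hOp : IsPGroup p O := H1.isPGroup_pCore p H
  have hCO : centralizer (O : Set H) ≤ O := H10.centralizer_pCore_le hH hb
  have hOmap : ∀ a : MulAut H, O.map a.toMonoidHom = O := fun a => H1.map_pCore_equiv p a
  have hpH : p ∣ Nat.card H := hd.trans O.index_dvd_card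
  haveI hH1 : Nontrivial H := Finite.one_lt_card_iff_nontrivial.mp
    (hp.out.one_lt.trans_le (Nat.le_of_dvd Nat.card_pos hpH))
  have hO1 : O ≠ ⊥ := (H10.pCore_or_pPrimeCore_ne_bot hH).resolve_right (not_ne_iff.mpr hb)
  haveI : Nontrivial O := (nontrivial_iff_ne_bot O).mpr hO1
  haveI : Nontrivial (center O) := hOp.center_nontrivial
  obtain ⟨z, hz⟩ : ∃ z : H, z ∈ O ⊓ centralizer (O : Set H) ∧ orderOf z = p := by
    have hdz : p ∣ Nat.card (center O) := by
      obtain ⟨k, hk⟩ := (hOp.to_subgroup (center O)).exists_card_eq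
      rcases k with _ | k
      · exact absurd hk (by simpa using (Finite.one_lt_card (α := center O)).ne')
      · exact hk ▸ dvd_pow_self p (Nat.succ_ne_zero k)
    obtain ⟨⟨⟨z, hzO⟩, hzc⟩, hz⟩ := exists_prime_orderOf_dvd_card' p hdz
    refine ⟨z, mem_inf.mpr ⟨hzO, ?_⟩, by simpa [Subgroup.orderOf_mk] using hz⟩
    rw [mem_centralizer_iff]
    intro y hy
    exact congrArg Subtype.val (mem_center_iff.mp hzc ⟨y, hy⟩)
  -- all elements of order `p` lie in a given characteristic subgroup containing one
  have hall : ∀ C : Subgroup H, (∀ a : MulAut H, C.map a.toMonoidHom = C) → ∀ c ∈ C,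
      orderOf c = p → ∀ u : H, orderOf u = p → u ∈ C := by
    intro C hC c hc hco u hu
    obtain ⟨a, ha⟩ := htr (zpowers c) (zpowers u) (by rw [Nat.card_zpowers, hco])
      (by rw [Nat.card_zpowers, hu])
    have h1 : zpowers u ≤ C := by
      rw [← ha, ← hC a]
      exact map_mono (by rwa [zpowers_le])
    exact h1 (mem_zpowers u)
  have hZmap : ∀ a : MulAut H, (O ⊓ centralizer (O : Set H)).map a.toMonoidHom =
      O ⊓ centralizer (O : Set H) := fun a => by
    rw [map_inf _ _ _ a.injective, hOmap]
    congr 1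
    conv_rhs => rw [← hOmap a]
    exact map_centralizer_mulAut a _
  have hordp : ∀ u : H, orderOf u = p → u ∈ O ⊓ centralizer (O : Set H) :=
    fun u hu => hall _ hZmap z hz.1 hz.2 u hu
  -- a nontrivial `p'`-subgroup normal modulo `O`
  set f := QuotientGroup.mk' O
  haveI hL1 : Nontrivial (H ⧸ O) := QuotientGroup.nontrivial_iff.mpr (fun e => by
    rw [e, index_top] at hd
    exact hp.out.ne_one (Nat.dvd_one.mp hd))
  have hL : Cfsg.pPrimeCore p (H ⧸ O) ≠ ⊥ :=
    (H10.pCore_or_pPrimeCore_ne_bot (H10.isPSolvable_quotient hH O)).resolve_left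
      (not_ne_iff.mpr H10.pCore_quotient_pCore)
  set L := Cfsg.pPrimeCore p (H ⧸ O)
  haveI : L.Normal := H1.pPrimeCore_normal' p (H ⧸ O)
  set M := L.comap f with hMdef
  have hOM : O ≤ M := fun x hx => by
    rw [hMdef, mem_comap, show f x = 1 from (QuotientGroup.eq_one_iff x).mpr hx]
    exact one_mem _
  obtain ⟨a, ha⟩ := hOp.exists_card_eq
  have hcop : (Nat.card O).Coprime (Nat.card L) :=
    ha ▸ ((H1.card_pPrimeCore_coprime p (H ⧸ O)).symm).pow_left a
  have hcM : Nat.card M = Nat.card O * Nat.card L := H1.card_comap_mk' O L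
  have hcO : Nat.card (O.subgroupOf M) = Nat.card O :=
    Nat.card_congr (subgroupOfEquivOfLe hOM).toEquiv
  have hiO : (O.subgroupOf M).index = Nat.card L := by
    have h2 := (O.subgroupOf M).card_mul_index
    rw [hcO, hcM] at h2
    exact Nat.eq_of_mul_eq_mul_left Nat.card_pos h2
  obtain ⟨K', hK'⟩ := exists_right_complement'_of_coprime (N := O.subgroupOf M)
    (by rw [hcO, hiO]; exact hcop)
  set K := K'.map M.subtype with hKdef
  have hcK : Nat.card K = Nat.card L := by
    rw [hKdef, card_map_of_injective M.subtype_injective]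
    have h2 := hK'.card_mul_card
    rw [hcO, hcM] at h2
    exact Nat.eq_of_mul_eq_mul_left Nat.card_pos h2
  have hKM : K ≤ M := map_subtype_le K'
  have hKn : K ≤ normalizer (O : Set H) := Subgroup.le_normalizer_of_normal
  have hsup : O ⊔ K = M := by
    refine eq_of_le_of_card_ge (sup_le hOM hKM) ?_
    rw [H1.card_sup_of_coprime hKn (hcK ▸ hcop), hcK, hcM]
  have hsolO : Group.IsSolvable O := by
    haveI : Group.IsNilpotent O := hOp.isNilpotent
    infer_instance
  -- Frattini argument
  have hfrat : ∀ g : H, ∃ d ∈ O, d⁻¹ * g ∈ normalizer (K : Set H) := by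
    intro g
    obtain ⟨d, hd1, hd2⟩ := H1.exists_conj_eq_of_coprime (K := MulAut.conj g • K) hKn
      (hcK ▸ hcop) (Or.inl hsolO) (by
        rw [hsup]
        intro y hy
        rw [mem_pointwise_smul_iff_inv_smul_mem] at hy
        have hM : M.Normal := Subgroup.Normal.comap inferInstance f
        have := hM.conj_mem _ (hKM hy) g
        simpa [MulAut.smul_def, mul_assoc] using this) (H1.card_conj_smul g K)
    refine ⟨d, hd1, ?_⟩
    refine H1.le_normalizer_iff_conj_smul_eq.mpr (fun x hx => ?_) (mem_zpowers _)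
    rw [mem_zpowers_iff] at hx
    obtain ⟨n, rfl⟩ := hx
    have h1 : MulAut.conj (d⁻¹ * g) • K = K := by
      rw [map_mul, map_inv, mul_smul, ← hd2, inv_smul_smul]
    rw [map_zpow]
    exact (MulAction.stabilizer (MulAut H) K).zpow_mem h1 n
  have hpN : p ∣ Nat.card (normalizer (K : Set H)) := by
    have hsur : Function.Surjective (f.comp (normalizer (K : Set H)).subtype) := by
      intro y
      obtain ⟨g, rfl⟩ := QuotientGroup.mk'_surjective O y
      obtain ⟨d, hd1, hd2⟩ := hfrat g
      refine ⟨⟨_, hd2⟩, ?_⟩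
      simp only [MonoidHom.coe_comp, Function.comp_apply, coe_subtype]
      rw [map_mul, map_inv, show f d = 1 from (QuotientGroup.eq_one_iff d).mpr hd1, inv_one, one_mul]
    exact (index_eq_card O ▸ hd).trans (card_dvd_of_surjective _ hsur)
  obtain ⟨⟨u, huN⟩, hu⟩ := exists_prime_orderOf_dvd_card' p hpN
  rw [Subgroup.orderOf_mk] at hu
  have huZ := hordp u hu
  -- `u` centralises `K`
  have hdisj : O ⊓ K = ⊥ := (disjoint_of_coprime_natCard (hcK ▸ hcop)).eq_bot
  have huK : ∀ k ∈ K, u * k = k * u := by
    intro k hk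
    have h1 : u * k * u⁻¹ * k⁻¹ ∈ O ⊓ K := by
      refine mem_inf.mpr ⟨?_, ?_⟩
      · have := hOn.conj_mem _ (inv_mem huZ.1) k
        have h3 := mul_mem huZ.1 this
        simpa [mul_assoc] using h3
      · exact mul_mem ((mem_normalizer_iff.mp huN k).mp hk) (inv_mem hk)
    rw [hdisj, mem_bot, mul_inv_eq_one] at h1
    exact mul_inv_eq_iff_eq_mul.mp h1
  have hMmap : ∀ a : MulAut H, M.map a.toMonoidHom = M := by
    intro a
    refine eq_of_le_of_card_ge ?_ (card_map_of_injective a.injective).ge
    rintro _ ⟨x, hx, rfl⟩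
    have h1 := (H1.map_pPrimeCore_equiv p (QuotientGroup.congr O O a (hOmap a))).le
      (mem_map_of_mem _ (mem_comap.mp hx))
    exact h1
  have hCMmap : ∀ a : MulAut H, (centralizer (M : Set H)).map a.toMonoidHom =
      centralizer (M : Set H) := fun a => by
    conv_rhs => rw [← hMmap a]
    exact map_centralizer_mulAut a _
  have huM : u ∈ centralizer (M : Set H) := by
    rw [← hsup, mem_centralizer_iff]
    intro m hm
    obtain ⟨d, hd1, k, hk, rfl⟩ := H1.exists_mul_of_mem_sup hKn hm
    have h1 : Commute d u := mem_centralizer_iff.mp huZ.2 d hd1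
    have h2 : Commute k u := (huK k hk).symm
    exact h1.mul_left h2
  -- so `K` centralises `O`
  have hKO : K ≤ centralizer (O : Set H) := by
    intro k hk
    have hk' : (orderOf k).Coprime p :=
      (hcK ▸ H1.card_pPrimeCore_coprime p (H ⧸ O)).coprime_dvd_left
        (Subgroup.orderOf_dvd_natCard _ hk)
    have h1 : MulAut.conjNormal (H := O) k = 1 := by
      refine H6.eq_one_of_fixes_omega_one hp2 hOp _
        (hk'.coprime_dvd_left (orderOf_map_dvd _ k)) fun x hx => ?_
      apply Subtype.ext
      rw [MulAut.conjNormal_apply]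
      rcases eq_or_ne x 1 with rfl | hx1
      · simp
      · have hxo : orderOf (x : H) = p := by
          rw [Subgroup.orderOf_coe]
          exact orderOf_eq_prime hx hx1
        have := mem_centralizer_iff.mp (hall _ hCMmap u huM hu x hxo) k (hKM hk)
        rw [this, mul_inv_cancel_right]
    rw [mem_centralizer_iff]
    intro x hx
    have h2 := congrArg Subtype.val (DFunLike.congr_fun h1 ⟨x, hx⟩)
    rw [MulAut.conjNormal_apply] at h2
    exact (mul_inv_eq_iff_eq_mul.mp h2).symm
  have hK1 : K = ⊥ := le_bot_iff.mp (hdisj ▸ le_inf (hKO.trans hCO) le_rfl)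
  apply hL
  rw [← card_eq_one, ← hcK, hK1, card_bot]

end H1
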