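import Cfsg.Agent.H1.Hall
import Mathlib.GroupTheory.Index

/-!
Wielandt's solvability criterion and its consequences.
-/

set_option autoImplicit false

namespace H1

open scoped Pointwise

universe u

/-- Subgroups of coprime indices: product of indices. -/
theorem index_inf_eq_of_coprime {G : Type*} [Group G] [Finite G] (H K : Subgroup G)
    (h : H.index.Coprime K.index) : (H ⊓ K).index = H.index * K.index := by
  refine le_antisymm Subgroup.index_inf_le (Nat.le_of_dvd ?_ ?_)
  · exact Nat.pos_of_ne_zero (Subgroup.index_ne_zero_of_finite)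
  · exact h.mul_dvd_of_dvd_of_dvd (Subgroup.index_dvd_of_le inf_le_left)
      (Subgroup.index_dvd_of_le inf_le_right)

/-- Subgroups of coprime indices factorise the group. -/
theorem exists_mul_eq_of_coprime_index {G : Type*} [Group G] [Finite G] (H K : Subgroup G)
    (h : H.index.Coprime K.index) (g : G) : ∃ x ∈ H, ∃ y ∈ K, g = x * y := by
  have hr : K.relIndex H = K.index := by
    have h1 := Subgroup.relIndex_mul_index (inf_le_left : H ⊓ K ≤ H)
    rw [Subgroup.inf_relIndex_left, index_inf_eq_of_coprime H K h, mul_comm H.index] at h1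
    exact Nat.eq_of_mul_eq_mul_right (Nat.pos_of_ne_zero Subgroup.index_ne_zero_of_finite) h1
  let f : H ⧸ K.subgroupOf H → G ⧸ K :=
    Quotient.lift (fun x => ((x : G) : G ⧸ K)) (fun a b hab => by
      rw [QuotientGroup.eq]
      have := QuotientGroup.leftRel_apply.mp hab
      exact Subgroup.mem_subgroupOf.mp this)
  have hf : Function.Injective f := by
    intro a b
    induction a using Quotient.inductionOn with | _ a => ?_
    induction b using Quotient.inductionOn with | _ b => ?_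
    intro hab
    refine Quotient.sound (QuotientGroup.leftRel_apply.mpr ?_)
    rw [Subgroup.mem_subgroupOf]
    exact QuotientGroup.eq.mp hab
  have hbij : Function.Bijective f := by
    have := Fintype.ofFinite (H ⧸ K.subgroupOf H)
    have := Fintype.ofFinite (G ⧸ K)
    refine (Fintype.bijective_iff_injective_and_card f).mpr ⟨hf, ?_⟩
    rw [← Nat.card_eq_fintype_card, ← Nat.card_eq_fintype_card]
    exact hr
  obtain ⟨q, hq⟩ := hbij.2 (g : G ⧸ K)
  induction q using Quotient.inductionOn with | _ x => ?_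
  refine ⟨x, x.2, (x : G)⁻¹ * g, ?_, by group⟩
  exact QuotientGroup.eq.mp hq

/-- A solvable normal subgroup with solvable quotient gives a solvable group. -/
theorem isSolvable_of_normal {G : Type*} [Group G] (N : Subgroup G) [N.Normal]
    (h1 : Group.IsSolvable N) (h2 : Group.IsSolvable (G ⧸ N)) : Group.IsSolvable G :=
  Group.isSolvable_of_ker_le_range N.subtype (QuotientGroup.mk' N) (by
    rw [QuotientGroup.ker_mk', Subgroup.range_subtype])

/-- **Wielandt**: `G = H₁H₂ = H₁H₃`, all three solvable, `|G:H₂|`, `|G:H₃|` coprime. -/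
theorem solvable_of_three {G : Type u} [Group G] [Finite G] (H₁ H₂ H₃ : Subgroup G)
    (h₁ : Group.IsSolvable H₁) (h₂ : Group.IsSolvable H₂) (h₃ : Group.IsSolvable H₃)
    (h12 : ∀ g : G, ∃ x ∈ H₁, ∃ y ∈ H₂, g = x * y) (h13 : ∀ g : G, ∃ x ∈ H₁, ∃ y ∈ H₃, g = x * y)
    (hcop : H₂.index.Coprime H₃.index) : Group.IsSolvable G := by
  induction hN : Nat.card G using Nat.strong_induction_on generalizing G with
  | _ N ih =>
  by_cases hb : H₁ = ⊥
  · have htop : H₂ = ⊤ := by
      refine top_le_iff.mp fun g _ => ?_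
      obtain ⟨x, hx, y, hy, rfl⟩ := h12 g
      rw [hb, Subgroup.mem_bot] at hx
      simpa [hx] using hy
    subst htop
    exact Group.isSolvable_of_surjective (f := (Subgroup.topEquiv : (⊤ : Subgroup G) ≃* G).toMonoidHom)
      (Subgroup.topEquiv : (⊤ : Subgroup G) ≃* G).surjective
  have := (Subgroup.nontrivial_iff_ne_bot H₁).mpr hb
  obtain ⟨p, V, hp, hVn, hV0, hVp⟩ := exists_normal_pgroup_ne_bot H₁
  have := Fact.mk hp
  set W := V.map H₁.subtype with hW
  have hWp : IsPGroup p W := hVp.map _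
  have hW0 : W ≠ ⊥ := fun h => hV0 ((Subgroup.map_eq_bot_iff_of_injective _ H₁.subtype_injective).mp h)
  have hWn : ∀ x ∈ H₁, ∀ w ∈ W, x * w * x⁻¹ ∈ W := by
    rintro x hx _ ⟨v, hv, rfl⟩
    exact ⟨⟨x, hx⟩ * v * ⟨x, hx⟩⁻¹, hVn.conj_mem v hv _, rfl⟩
  -- choose the factor whose index is prime to `p`
  obtain ⟨H, hH, h1H, hpH⟩ : ∃ H : Subgroup G, Group.IsSolvable H ∧
      (∀ g : G, ∃ x ∈ H₁, ∃ y ∈ H, g = x * y) ∧ ¬ p ∣ H.index := by
    by_cases hd : p ∣ H₂.index
    · exact ⟨H₃, h₃, h13, fun h => hp.not_dvd_one (hcop ▸ Nat.dvd_gcd hd h)⟩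
    · exact ⟨H₂, h₂, h12, hd⟩
  -- move `W` into `H`
  have hWH : W ≤ H := by
    obtain ⟨T, hT⟩ := hWp.exists_le_sylow
    set Q := Classical.arbitrary (Sylow p H)
    have hQle : (Q : Subgroup H).map H.subtype ≤ H := Subgroup.map_subtype_le _
    have hQc : Nat.card ↥((Q : Subgroup H).map H.subtype) = p ^ (Nat.card G).factorization p := by
      rw [← Nat.card_congr (Subgroup.equivMapOfInjective (Q : Subgroup H) _
        H.subtype_injective).toEquiv, Q.card_eq_multiplicity, ← H.card_mul_index,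
        Nat.factorization_mul Nat.card_pos.ne' Subgroup.index_ne_zero_of_finite,
        Finsupp.add_apply, Nat.factorization_eq_zero_of_not_dvd hpH, add_zero]
    obtain ⟨g, hg⟩ := MulAction.exists_smul_eq G T (Sylow.ofCard _ hQc)
    have hgle : MulAut.conj g • W ≤ H := by
      refine le_trans (Subgroup.pointwise_smul_le_pointwise_smul_iff.mpr hT) ?_
      have := congrArg Sylow.toSubgroup hg
      rw [Sylow.coe_subgroup_smul, Sylow.coe_ofCard] at this
      rw [this]
      exact hQle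
    obtain ⟨x, hx, y, hy, hxy⟩ := h1H g⁻¹
    intro w hw
    have hgxy : g = y⁻¹ * x⁻¹ := by rw [← mul_inv_rev, ← hxy, inv_inv]
    have h1 := hgle ⟨x * w * x⁻¹, hWn x hx w hw, rfl⟩
    change g * (x * w * x⁻¹) * g⁻¹ ∈ H at h1
    have h2 := mul_mem (mul_mem hy h1) (inv_mem hy)
    convert h2 using 1
    rw [hgxy]; group
  set N' := Subgroup.normalClosure (W : Set G) with hN'
  have hN'H : N' ≤ H := by
    refine (Subgroup.closure_le _).mpr ?_
    intro z hz
    obtain ⟨w, hw, hconj⟩ := Group.mem_conjugatesOfSet_iff.mp hz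
    obtain ⟨g, rfl⟩ := isConj_iff.mp hconj
    obtain ⟨x, hx, y, hy, hxy⟩ := h1H g⁻¹
    have hgxy : g = y⁻¹ * x⁻¹ := by rw [← mul_inv_rev, ← hxy, inv_inv]
    have h1 := mul_mem (mul_mem (inv_mem hy) (hWH (hWn x⁻¹ (inv_mem hx) w hw))) hy
    rw [SetLike.mem_coe]
    convert h1 using 1
    rw [hgxy]; group
  have hN's : Group.IsSolvable N' := isSolvable_mono hH hN'H
  refine isSolvable_of_normal N' hN's ?_
  have hN'0 : N' ≠ ⊥ := fun h => hW0 (le_bot_iff.mp (h ▸ Subgroup.subset_normalClosure))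
  have hlt : Nat.card (G ⧸ N') < Nat.card G := by
    conv_rhs => rw [Subgroup.card_eq_card_quotient_mul_card_subgroup N']
    exact lt_mul_of_one_lt_right Nat.card_pos ((Subgroup.one_lt_card_iff_ne_bot N').mpr hN'0)
  have hsol : ∀ K : Subgroup G, Group.IsSolvable K →
      Group.IsSolvable ↥(K.map (QuotientGroup.mk' N')) := fun K hK =>
    Group.isSolvable_of_surjective ((QuotientGroup.mk' N').subgroupMap_surjective K)
  have hfac : ∀ K : Subgroup G, (∀ g : G, ∃ x ∈ H₁, ∃ y ∈ K, g = x * y) →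
      ∀ g : G ⧸ N', ∃ x ∈ H₁.map (QuotientGroup.mk' N'), ∃ y ∈ K.map (QuotientGroup.mk' N'),
        g = x * y := by
    intro K hK g
    obtain ⟨g, rfl⟩ := QuotientGroup.mk_surjective g
    obtain ⟨x, hx, y, hy, rfl⟩ := hK g
    exact ⟨x, ⟨x, hx, rfl⟩, y, ⟨y, hy, rfl⟩, rfl⟩
  exact ih _ (hN ▸ hlt) _ _ _ (hsol _ h₁) (hsol _ h₂) (hsol _ h₃) (hfac _ h12) (hfac _ h13)
    ((hcop.coprime_dvd_left (H₂.index_map_dvd (QuotientGroup.mk'_surjective N'))).coprime_dvd_right
      (H₃.index_map_dvd (QuotientGroup.mk'_surjective N'))) rfl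

/-- Three solvable subgroups of pairwise coprime indices. -/
theorem solvable_of_three_coprime {G : Type u} [Group G] [Finite G] (H₁ H₂ H₃ : Subgroup G)
    (h₁ : Group.IsSolvable H₁) (h₂ : Group.IsSolvable H₂) (h₃ : Group.IsSolvable H₃)
    (c12 : H₁.index.Coprime H₂.index) (c13 : H₁.index.Coprime H₃.index)
    (c23 : H₂.index.Coprime H₃.index) : Group.IsSolvable G :=
  solvable_of_three H₁ H₂ H₃ h₁ h₂ h₃ (exists_mul_eq_of_coprime_index _ _ c12)
    (exists_mul_eq_of_coprime_index _ _ c13) c23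

end H1
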